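import Groth.Agent.RelGenQALib.Main
import Groth.Agent.TameStLib.Fam
import Groth.Agent.GenDescLib.Main

/-!
# Affine morphisms are cohomologically affine
-/

set_option autoImplicit false
set_option linter.style.haveILetI false
set_option backward.isDefEq.respectTransparency false
set_option backward.isDefEq.respectTransparency.types false

universe u

open CategoryTheory CategoryTheory.Limits AlgebraicGeometry AlgSp FibCat FibLib AlgStLib IsoNatLib IsoNatSepLib Opposite StMod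
open CategoryTheory.Functor (Fiber IsPreFibered IsStronglyCartesian)

noncomputable section

namespace CohAffMorLib


variable {S : Scheme.{u}} {𝒳 𝒴 : AlgSt.Cat S} [IsFibGrpd 𝒳.p] [IsFibGrpd 𝒴.p]

/-- The category over an affine object along a affine morphism has a terminal object over an affine scheme. -/
theorem exists_terminal {f : 𝒳 ⥤ᵇ 𝒴} (hf : AlgSt.RepByAlgSpWith IsAffineMor f) (η : 𝒴.obj)
    (hη : IsAffine (sch 𝒴 η)) :
    ∃ w0 : (fibCat f η).obj, IsAffine (sch (fibCat f η) w0) ∧ (∀ x, Nonempty (x ⟶ w0)) ∧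
      ∀ x (k k' : x ⟶ w0), k = k' := by
  obtain ⟨H, aH, -, hP, -, ⟨C⟩⟩ := exists_classifier hf (Fiber.mk (p := 𝒴.p) (a := η) rfl)
  obtain ⟨W, i, fst, sq, hW⟩ := hP hη (𝟙 _)
  haveI : IsIso fst := sq.isIso_fst_of_isIso
  haveI := AlgStLib.faithful_of_repByAlgSp1 (repByAlgSp1_of_with hf)
  obtain ⟨E0, hE0⟩ := C.exists_elt fst
  let w0 : (fibCat f η).obj := CostructuredArrow.mk (S := f.toFunctor) (Y := E0.obj.1) E0.map
  have hw : IsAffine (sch (fibCat f η) w0) := by
    change IsAffine ((𝒳.p.obj E0.obj.1).left)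
    rw [E0.obj.2]; exact hW
  have hb : ∀ x : (fibCat f η).obj, 𝒴.p.IsHomLift (baseOver f x.left x.hom) x.hom := fun x =>
    IsHomLift.of_fac' 𝒴.p _ _ (f.w_obj x.left) rfl (by simp [baseOver])
  let Ex : ∀ x : (fibCat f η).obj, Elt f (Fiber.mk (p := 𝒴.p) (a := η) rfl) (𝒳.p.obj x.left) := fun x =>
    ⟨baseOver f x.left x.hom, Fiber.mk (p := 𝒳.p) (a := x.left) rfl, x.hom, hb x⟩
  refine ⟨w0, hw, fun x => ?_, fun x k k' => ?_⟩
  · obtain ⟨c, hc⟩ := (yon S).map_surjective (C.cls (Ex x) ≫ inv fst)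
    obtain ⟨k, -, hk⟩ := C.ehom_of_comp (E := E0) (E' := Ex x) (c := c) (by rw [hc, hE0]; simp)
    exact ⟨CostructuredArrow.homMk k hk⟩
  · let c : ∀ q : x ⟶ w0, 𝒳.p.obj x.left ⟶ W := fun q => 𝒳.p.map q.left ≫ eqToHom E0.obj.2
    have hc : ∀ q : x ⟶ w0, 𝒳.p.IsHomLift (c q) q.left := fun q =>
      IsHomLift.of_fac' 𝒳.p _ _ rfl E0.obj.2 (by simp [c])
    have he : ∀ q : x ⟶ w0, EHom (c q) (Ex x) E0 := fun q => ⟨q.left, hc q, CostructuredArrow.w q⟩
    have e : (yon S).map (c k) ≫ fst = (yon S).map (c k') ≫ fst := by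
      rw [← hE0, ← C.cls_map (he k), ← C.cls_map (he k')]
    have e' : c k = c k' := (yon S).map_injective ((cancel_mono fst).1 e)
    have l : ∀ q : x ⟶ w0, 𝒴.p.IsHomLift (c q) (f.map q.left) := fun q => by
      haveI := hc q
      exact f.preserves_isHomLift (c q) q.left
    have : f.map k.left = f.map k'.left :=
      eq_of_fac E0.lift (l k) (lift_congr e'.symm (l k')) ((CostructuredArrow.w k).trans (CostructuredArrow.w k').symm)
    exact CostructuredArrow.hom_ext _ _ (f.toFunctor.map_injective this)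

/-- An affine chart of the category over an affine object along an affine morphism. -/
theorem exists_chart {f : 𝒳 ⥤ᵇ 𝒴} (hf : AlgSt.RepByAlgSpWith IsAffineMor f) (η : 𝒴.obj)
    (hη : IsAffine (sch 𝒴 η)) :
    ∃ w0 : (fibCat f η).obj, IsAffine (sch (fibCat f η) w0) ∧
      GenDescLib.Chart (fibCat f η) w0 w0 (𝟙 w0) (𝟙 w0) := by
  obtain ⟨w0, hw, hk, hk'⟩ := exists_terminal hf η hη
  refine ⟨w0, hw, GenDescLib.fibred_fibCat (f := f) η, fun x => ⟨x, 𝟙 x, (hk x).some, ?_, ?_, ?_⟩, fun y a b =>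
      ⟨y, 𝟙 y, a, ?_, ?_, ?_, ?_⟩⟩
  · rw [bmap_id]; infer_instance
  · rw [bmap_id]; infer_instance
  · rw [bmap_id]; infer_instance
  · rw [bmap_id]; infer_instance
  · rw [bmap_id]; infer_instance
  · rw [Category.comp_id, Category.id_comp]
  · rw [Category.comp_id, Category.id_comp, hk' y a b]

/-- Sections of direct images along affine morphisms over affine objects lift along surjections. -/
theorem surjective_relSectMap {f : 𝒳 ⥤ᵇ 𝒴} (hf : AlgSt.RepByAlgSpWith IsAffineMor f) (η : 𝒴.obj)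
    (hη : IsAffine (sch 𝒴 η)) {F G : QCoh 𝒳} (u : F ⟶ G) (hu : Mod.IsSurj u.hom) :
    Function.Surjective (Mod.relSectMap f u.hom η) := by
  obtain ⟨w0, hw, hW⟩ := exists_chart hf η hη
  refine TameStLib.surjective_of_chart hW u fun v _ => ?_
  obtain ⟨m, hm⟩ := hu w0.left hw v
  exact ⟨m, rfl, hm⟩

end CohAffMorLib
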