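import Groth.Agent.CohAffMorLib.Term
import Groth.Agent.StPushLib.EtQc

/-!
# Cancelling a morphism with affine diagonal
-/

set_option autoImplicit false
set_option linter.style.haveILetI false
set_option backward.isDefEq.respectTransparency false
set_option backward.isDefEq.respectTransparency.types false
set_option maxHeartbeats 800000

universe u

open CategoryTheory CategoryTheory.Limits AlgebraicGeometry AlgSp AlgSpLib FibCat FibLib AlgStLib Opposite StMod
open StPushLib (flatSys_atlas)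

noncomputable section

namespace CohAffMorLib

variable {S : Scheme.{u}}

/-- The diagonal of a morphism of spaces. -/
theorem repByAlgSpWith_diag_ofSpMap {P : MorphismProperty (Sp S)} (hP : StableBC P) {M N : Sp S}
    (hM : IsAlgSpace M) (hN : IsAlgSpace N) (g : M ⟶ N) (h : P (pullback.diagonal g)) :
    AlgSt.RepByAlgSpWith P (FibCat.diag (AlgSt.ofSpMap g)) := by
  haveI := full_id (AlgSt.ofSp M)
  haveI := faithful_id (AlgSt.ofSp M)
  have hMM := isAlgSpace_pullback hM hM hN g g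
  have sqg := isPullback_sheaf (IsPullback.of_hasPullback g g)
  let α : BasedFunctor.comp (Stk.ofPshMap (pullback.fst g g).hom) (Stk.ofPshMap g.hom) ≅
      BasedFunctor.comp (Stk.ofPshMap (pullback.snd g g).hom) (Stk.ofPshMap g.hom) :=
    eqToIso (by rw [← ofPshMap_comp, ← ofPshMap_comp, sqg.w])
  let E : AlgSt.ofSp (pullback g g) ⥤ᵇ fp (AlgSt.ofSpMap g) (AlgSt.ofSpMap g) := fpLift _ _ α
  have hE : IsEquivOver E :=
    isEquivOver_fpLift_of_bijective sqg.w α (fun T => bijective_toPairs_of_isPullback sqg T)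
  have hΔ : BasedFunctor.comp (Stk.ofPshMap (pullback.diagonal g).hom) E ≅ FibCat.diag (AlgSt.ofSpMap g) := by
    have h₁ : (pullback.diagonal g).hom ≫ (pullback.fst g g).hom = 𝟙 M.obj :=
      congrArg (fun t : M ⟶ M => t.hom) (pullback.diagonal_fst g)
    have h₂ : (pullback.diagonal g).hom ≫ (pullback.snd g g).hom = 𝟙 M.obj :=
      congrArg (fun t : M ⟶ M => t.hom) (pullback.diagonal_snd g)
    refine fpIsoExtPsh _ _ ?_ ?_
    · exact (eqToIso (by rw [← ofPshMap_comp, h₁, ofPshMap_id]) :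
        BasedFunctor.comp (Stk.ofPshMap (pullback.diagonal g).hom) (Stk.ofPshMap (pullback.fst g g).hom) ≅
          BasedFunctor.id _)
    · exact (eqToIso (by rw [← ofPshMap_comp, h₂, ofPshMap_id]) :
        BasedFunctor.comp (Stk.ofPshMap (pullback.diagonal g).hom) (Stk.ofPshMap (pullback.snd g g).hom) ≅
          BasedFunctor.id _)
  have hm : AlgSt.RepByAlgSpWith P (AlgSt.ofSpMap (pullback.diagonal g)) :=
    repByAlgSpWith_ofSpMap hM hMM _ fun U ξ => hP hM hMM
      (isAlgSpace_pullback hM (IsAlgSpace.yon_obj U) hMM _ ξ) (IsAlgSpace.yon_obj U) _ ξ _ _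
      (IsPullback.of_hasPullback _ ξ) h
  exact (repByAlgSpWith_square_iff (f := FibCat.diag (AlgSt.ofSpMap g)) (f' := AlgSt.ofSpMap (pullback.diagonal g))
    (a := BasedFunctor.id _) (b := E) (isEquivOver_id _) hE hΔ P).mpr hm

variable {𝒳 : AlgSt.Cat S} {M N : Sp S}

/-- Cohomological affineness cancels a morphism of spaces with affine diagonal. -/
theorem isCohAffine_of_comp (h𝒳 : AlgSt.IsAlgStack Scheme.fppfPrecoverage 𝒳) (hM : IsAlgSpace M)
    (hN : IsAlgSpace N) (hQ : StPushLib.QcProd N) (f : 𝒳 ⥤ᵇ AlgSt.ofSp M) (g : M ⟶ N)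
    (hg : IsAffineMor (pullback.diagonal g))
    (hqc : AlgSt.IsQuasiCompactMor Scheme.fppfPrecoverage (BasedFunctor.comp f (AlgSt.ofSpMap g)))
    (hqs : AlgSt.IsQuasiSeparatedMor (BasedFunctor.comp f (AlgSt.ofSpMap g)))
    (h : StMod.IsCohAffine (BasedFunctor.comp f (AlgSt.ofSpMap g))) : StMod.IsCohAffine f := by
  haveI := isFibGrpd_of_isAlgStack h𝒳
  haveI : IsFibGrpd (AlgSt.ofSp M).p := Stk.isFibGrpd_ofPsh _
  haveI : IsFibGrpd (AlgSt.ofSp N).p := Stk.isFibGrpd_ofPsh _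
  let fg := BasedFunctor.comp f (AlgSt.ofSpMap g)
  haveI : IsFibGrpd (fp (AlgSt.ofSpMap g) fg).p := isFibGrpd_fp
  haveI := full_id 𝒳
  haveI := faithful_id 𝒳
  let Γ : 𝒳 ⥤ᵇ fp fg (AlgSt.ofSpMap g) := fpLift (BasedFunctor.id 𝒳) f (Iso.refl _)
  have hΓ : AlgSt.RepByAlgSpWith IsAffineMor Γ :=
    repByAlgSpWith_graph fg (AlgSt.ofSpMap g) f (Iso.refl _)
      (repByAlgSpWith_diag_ofSpMap good_affine.bc hM hN g hg)
  let i := BasedFunctor.comp Γ (fpSwap fg (AlgSt.ofSpMap g))
  have hi : AlgSt.RepByAlgSpWith IsAffineMor i :=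
    (repByAlgSpWith_square_iff (f := i) (f' := Γ) (a := BasedFunctor.id _) (b := fpSwap fg (AlgSt.ofSpMap g))
      (isEquivOver_id _) (isEquivOver_fpSwap fg (AlgSt.ofSpMap g)) (Iso.refl _) _).mpr hΓ
  have hW := isAlgStack_fp' (isAlgStack_ofSp hM) h𝒳 (isAlgStack_ofSp hN) (AlgSt.ofSpMap g) fg
  obtain ⟨U0, x, hx, hxs⟩ := hW.atlas
  have hca : StMod.IsCohAffine (fpFst (AlgSt.ofSpMap g) fg) :=
    StPushLib.isCohAffine_fpFst (g := g) (π := fg) h𝒳 hN hQ hqc hqs h
  intro F G u hu E hE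
  exact surjective_relSectMap_comp i hi (flatSys_atlas x hx hxs) (fpFst (AlgSt.ofSpMap g) fg) f (Iso.refl _) hca u hu E hE

end CohAffMorLib
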