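import Groth.Agent.CohAffMorLib.Affine
import Groth.Agent.StPushLib.Core
import Groth.Agent.StPushLib.CohBC

/-!
# Composites of affine and cohomologically affine morphisms
-/

set_option autoImplicit false
set_option linter.style.haveILetI false
set_option backward.isDefEq.respectTransparency false
set_option backward.isDefEq.respectTransparency.types false
set_option maxHeartbeats 1600000

universe u

open CategoryTheory CategoryTheory.Limits AlgebraicGeometry AlgSp FibCat FibLib Opposite StMod GenDescLib TensorProduct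
open CohAffLib (hs hs_one oneSec hom_ext_one pull_hs mapTop_oneSec mapTop_comapFst ofFamily castSec mapTop_comap_castSec)
open TwDescLib (tot totMap vert ci castObjIso indIncl indHom MObj)
open StPushLib

noncomputable section

namespace CohAffMorLib

variable {S : Scheme.{u}}

theorem castObjIso_top {X T : Scheme.{u}} (h : X = T) (M : X.Modules) (v : Γ(M, ⊤)) :
    (castObjIso h M).hom.m.app ⊤ v = castSec h v := by
  subst h; rfl

theorem castHom_app_top {X T : Scheme.{u}} (h : X = T) {M N : X.Modules} (u : M ⟶ N) (v : Γ(M, ⊤)) :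
    (castHom h u).app ⊤ (castSec h v) = castSec h (u.app ⊤ v) := CohAffLib.castHom_castSec h u v

section Fam

variable {V W : AlgSt.Cat S} {i : V ⥤ᵇ W} {N : Mod V} {z : W.obj}

/-- The value of a family at the unit. -/
def sectOfFam (t : HomFam i (O V) isCartesian_O N z) : Mod.RelSect i N z :=
  ⟨fun v a => (t.1 v a).app ⊤ (oneSec v), fun v' v φ a => by
    refine Eq.trans ?_ (congrArg (fun h => h.app ⊤ (oneSec v')) (t.compat φ a))
    refine Eq.trans ?_ (congrArg ((pull (O V) N isCartesian_O φ (t.1 v a)).app ⊤) (mapTop_oneSec φ))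
    exact (pull_app (O V) N isCartesian_O φ (t.1 v a) (oneSec v)).symm⟩

/-- The family of a section. -/
def famOfSect (s : Mod.RelSect i N z) : HomFam i (O V) isCartesian_O N z :=
  ⟨fun v a => hs N v (s.1 v a), fun v' v φ a => by
    rw [pull_hs, s.2 φ a]⟩

theorem famOfSect_app (s : Mod.RelSect i N z) (v : V.obj) (a : i.obj v ⟶ z) :
    ((famOfSect s).1 v a).app ⊤ (oneSec v) = s.1 v a := hs_one N v _

theorem famOfSect_sectOfFam (t : HomFam i (O V) isCartesian_O N z) : famOfSect (sectOfFam t) = t :=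
  HomFam.ext fun v a => hom_ext_one N (hs_one N v _)

end Fam

variable {V W : AlgSt.Cat S} [IsFibGrpd V.p] [IsFibGrpd W.p] {M : AlgSp.Sp S}

set_option maxHeartbeats 3200000 in
/-- Sections along the composite of an affine morphism and a cohomologically affine one lift. -/
theorem surjective_relSectMap_comp (i : V ⥤ᵇ W) (hi : AlgSt.RepByAlgSpWith IsAffineMor i)
    {Mem : W.obj → Prop} (hMem : FlatSys Mem) (τ : W ⥤ᵇ AlgSt.ofSp M) (σ : V ⥤ᵇ AlgSt.ofSp M)
    (θ : BasedFunctor.comp i τ ≅ σ) (h : StMod.IsCohAffine τ) {F G : QCoh V} (u : F ⟶ G)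
    (hu : Mod.IsSurj u.hom) (E : EtOver M) (hE : IsAffine E.obj.left.left) :
    Function.Surjective (Mod.relSectMap σ u.hom (etaOf E)) := by
  intro s
  haveI hB : IsFibGrpd (AlgSt.ofSp M).p := Stk.isFibGrpd_ofPsh _
  let ν : (AlgSt.ofSp M).obj := etaOf E
  haveI : IsAffine ν.base.left := hE
  have hν : RepWith @Etale (toM ν) := by rw [toM_etaOf]; exact E.property
  haveI : IsFibGrpd (fibCat τ ν).p := isFibGrpd_fibCat τ ν
  have hch : HasCharts i Mem := fun z hz => by
    obtain ⟨w0, hw, hW⟩ := exists_chart hi z (hMem.aff _ hz)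
    exact ⟨w0, w0, 𝟙 _, 𝟙 _, hw, hw, hW⟩
  obtain ⟨PF⟩ := exists_push (E := O V) (hE := isCartesian_O) hMem hch isLocQCoh_O (isFinPres_O V) F.property
  obtain ⟨PG⟩ := exists_push (E := O V) (hE := isCartesian_O) hMem hch isLocQCoh_O (isFinPres_O V) G.property
  obtain ⟨a, ha⟩ := PF.toSysMod.exists_map hMem PG.toSysMod
    (fun z => AddMonoidHom.mk' (fun t => mapFam u.hom t) (mapFam_add u.hom))
    (fun z r t => mapFam_smul u.hom r t) (fun l t => resFam_mapFam l u.hom t)
  have hsurj : Mod.IsSurj a.hom := isSurj_of_members a hMem fun z hz y => by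
    obtain ⟨t, rfl⟩ := (PG.ι ⟨z, hz⟩).surjective y
    obtain ⟨s', hs'⟩ := surjective_relSectMap hi z (hMem.aff _ hz) u hu (sectOfFam t)
    refine ⟨PF.ι ⟨z, hz⟩ (famOfSect s'), (ha ⟨z, hz⟩ (famOfSect s')).trans (congrArg (PG.ι ⟨z, hz⟩) ?_)⟩
    refine HomFam.ext fun v b => hom_ext_one G.obj ?_
    show (u.hom.app v).app ⊤ (((famOfSect s').1 v b).app ⊤ (oneSec v)) = _
    rw [famOfSect_app]
    exact congrArg (fun r : Mod.RelSect i G.obj z => r.1 v b) hs'
  -- the section of the pushforward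
  let Mem' : (fibCat τ ν).obj → Prop := fun y => Mem y.left
  have hMem' : FlatSys Mem' := flatSys_fibCat τ ν hν hMem
  have hnat : ∀ {v' v : V.obj} (d : v' ⟶ v),
      σ.map d ≫ θ.inv.toNatTrans.app v = θ.inv.toNatTrans.app v' ≫ τ.map (i.map d) :=
    fun d => θ.inv.toNatTrans.naturality d
  let ts : ∀ (z : W.obj) (β : τ.obj z ⟶ ν), HomFam i (O V) isCartesian_O G.obj z := fun z β =>
    famOfSect ⟨fun v b => s.1 v (θ.inv.toNatTrans.app v ≫ τ.map b ≫ β), fun v' v φ b => by
      refine (s.2 φ _).trans (congrArg (s.1 v') ?_)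
      rw [← Category.assoc, hnat, τ.toFunctor.map_comp, Category.assoc, Category.assoc]⟩
  have hts : ∀ {z' z : W.obj} (l : z' ⟶ z) (β : τ.obj z ⟶ ν), resFam l (ts z β) = ts z' (τ.map l ≫ β) :=
    fun {z' z} l β => HomFam.ext fun v b => by
      show hs G.obj v _ = hs G.obj v _
      refine congrArg (fun k => hs G.obj v (s.1 v (θ.inv.toNatTrans.app v ≫ k))) ?_
      rw [τ.toFunctor.map_comp, Category.assoc]
  let σ0 : ∀ y : {y // Mem' y}, Γ(PG.G.obj.obj y.1.left, ⊤) := fun y => PG.ι ⟨y.1.left, y.2⟩ (ts _ y.1.hom)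
  let GI := Mod.comap (fibFst τ ν) PG.G.obj
  have hσ0 : ∀ {y' y : {y // Mem' y}} (k : memObj y' ⟶ memObj y), GI.mapTop k (σ0 y) = σ0 y' := fun {y' y} k => by
    refine (mapTop_comapFst (π := τ) ν PG.G.obj k (σ0 y)).trans ?_
    refine (PG.res ⟨y'.1.left, y'.2⟩ ⟨y.1.left, y.2⟩ k.left _).trans (congrArg (PG.ι _) ?_)
    exact (hts k.left y.1.hom).trans (congrArg (ts y'.1.left) (CostructuredArrow.w k))
  let Ψ : Mod.comap (indIncl (memObj (Mem := Mem'))) (O (fibCat τ ν)) ⟶ Mod.comap (indIncl (memObj (Mem := Mem'))) GI :=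
    ⟨fun y => hs GI (memObj y) (σ0 y), fun {y' y} φ g hg => by
      subst hg
      obtain ⟨k⟩ := φ
      have h1 : ∀ N : Mod (fibCat τ ν), (Mod.comap (indIncl (memObj (Mem := Mem'))) N).map
          (indHom (f := memObj) (w' := y') (w := y) k) rfl = N.map k rfl := fun N => by
        rw [Mod.comap_map]; exact castMap_rfl_self _ _
      refine (congrArg (· ≫ _) (h1 (O (fibCat τ ν)))).trans (Eq.trans ?_ (congrArg (hs GI (memObj y) (σ0 y) ≫ ·) (h1 GI)).symm)
      refine (eq_pull_iff (O (fibCat τ ν)) GI isCartesian_O k _ _).1 ?_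
      rw [pull_hs, hσ0 k]⟩
  obtain ⟨σh, hσh⟩ := exists_hom hMem'.relSys isCartesian_O ((comapQ (fibFst τ ν)).obj PG.G).property Ψ
  let σW : Mod.RelSect τ PG.G.obj ν := ofFamily (π := τ) (η := ν) (F := PG.G.obj)
    (fun y => (σh.app y).app ⊤ (oneSec y))
    fun φ => (Mod.mapTop_app σh φ _).trans (congrArg _ (mapTop_oneSec φ))
  have hσW : ∀ y : {y // Mem' y}, σW.1 y.1.left y.1.hom = σ0 y := fun y => by
    show (σh.app (memObj y)).app ⊤ (oneSec (memObj y)) = σ0 y
    rw [hσh y]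
    exact hs_one GI (memObj y) (σ0 y)
  obtain ⟨tW, htW⟩ := h a hsurj E hE σW
  -- evaluation
  obtain ⟨ψ, hψ⟩ := exists_adjoint PF.G.property.1 PF hMem (𝟙 PF.G.obj) F.property
  have hev : ∀ (v : V.obj) (z : {z // Mem z}) (c : i.obj v ⟶ memObj z) (t : HomFam i (O V) isCartesian_O F.obj (memObj z)),
      (ψ.app v).app ⊤ (castSec (sch_obj_eq i v) (PF.G.obj.mapTop c (PF.ι z t))) = (t.1 v c).app ⊤ (oneSec v) :=
    fun v z c t => by
    have e0 := hψ v z c
    rw [Sat, Mod.id_app, TwDescLib.vert_id, Category.comp_id] at e0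
    have e2 := TwDescLib.app_congr e0 ⊤ (PF.ι z t)
    refine Eq.trans ?_ (evA_app PF hMem z v c t)
    refine Eq.trans ?_ e2
    refine Eq.trans ?_ (congr($((F.obj.obj v).presheaf.map_id _) _)).symm
    show _ = (ψ.app v).app ⊤ ((ci i PF.G.obj v).hom.m.app ⊤ ((totMap PF.G.obj c).m.app ⊤ (PF.ι z t)))
    exact congrArg _ (castObjIso_top (sch_obj_eq i v) _ _).symm
  let w : ∀ (v : V.obj) (β : σ.obj v ⟶ ν), Γ(PF.G.obj.obj (i.obj v), ⊤) := fun v β =>
    tW.1 (i.obj v) (θ.hom.toNatTrans.app v ≫ β)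
  have hnat' : ∀ {v' v : V.obj} (d : v' ⟶ v),
      τ.map (i.map d) ≫ θ.hom.toNatTrans.app v = θ.hom.toNatTrans.app v' ≫ σ.map d :=
    fun d => θ.hom.toNatTrans.naturality d
  have hw : ∀ {v' v : V.obj} (d : v' ⟶ v) (β : σ.obj v ⟶ ν),
      PF.G.obj.mapTop (i.map d) (w v β) = w v' (σ.map d ≫ β) := fun {v' v} d β => by
    refine (tW.2 (i.map d) _).trans (congrArg (tW.1 (i.obj v')) ?_)
    rw [← Category.assoc, hnat', Category.assoc]
  let t : Mod.RelSect σ F.obj ν := ⟨fun v β => (ψ.app v).app ⊤ (castSec (sch_obj_eq i v) (w v β)), fun v' v d β => by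
    refine (Mod.mapTop_app ψ d _).trans (congrArg _ ?_)
    rw [mapTop_comap_castSec, hw]⟩
  refine ⟨t, Mod.RelSect.ext _ _ _ fun v β => ?_⟩
  obtain ⟨K, y', c, zz, cc, hz, hc⟩ := hMem'.loc
    (CostructuredArrow.mk (S := τ.toFunctor) (Y := i.obj v) (θ.hom.toNatTrans.app v ≫ β))
  obtain ⟨v', d, g, hd, hg⟩ := exists_liftCover (π := i) v (fun k => (c k).left) hc
  show (u.hom.app v).app ⊤ (t.1 v β) = s.1 v β
  have key : hs G.obj v ((u.hom.app v).app ⊤ (t.1 v β)) = hs G.obj v (s.1 v β) := by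
    refine eq_of_pull isCartesian_O d (fun k => hd.flat k) hd.surj G.property.1 fun k => ?_
    show pull (O V) G.obj isCartesian_O (d k) _ = pull (O V) G.obj isCartesian_O (d k) _
    rw [pull_hs, pull_hs]
    refine congrArg (hs G.obj (v' k)) ?_
    rw [Mod.mapTop_app, t.2, s.2]
    let z : {z // Mem z} := ⟨(zz k).left, hz k⟩
    obtain ⟨tF, htF⟩ : ∃ tF, PF.ι z tF = tW.1 (zz k).left (zz k).hom := (PF.ι z).surjective _
    have h1 : (a.hom.app (zz k).left).app ⊤ (tW.1 (zz k).left (zz k).hom) = σ0 ⟨zz k, hz k⟩ :=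
      (congrArg (fun σ' : Mod.RelSect τ PG.G.obj ν => σ'.1 (zz k).left (zz k).hom) htW).trans (hσW ⟨zz k, hz k⟩)
    rw [← htF] at h1
    have h2 : mapFam u.hom tF = ts (zz k).left (zz k).hom := (PG.ι z).injective ((ha z tF).symm.trans h1)
    let b : i.obj (v' k) ⟶ (zz k).left := g k ≫ (cc k).left
    have hb : θ.inv.toNatTrans.app (v' k) ≫ τ.map b ≫ (zz k).hom = σ.map (d k) ≫ β := by
      have e1 : τ.map b ≫ (zz k).hom = τ.map (i.map (d k)) ≫ θ.hom.toNatTrans.app v ≫ β := by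
        rw [τ.toFunctor.map_comp, Category.assoc,
          show τ.map (cc k).left ≫ (zz k).hom = (y' k).hom from CostructuredArrow.w (cc k),
          ← show τ.map (c k).left ≫ θ.hom.toNatTrans.app v ≫ β = (y' k).hom from CostructuredArrow.w (c k),
          ← Category.assoc, ← τ.toFunctor.map_comp, hg]
      rw [e1, ← Category.assoc, ← hnat, Category.assoc, ← Category.assoc (θ.inv.toNatTrans.app v)]
      rw [show θ.inv.toNatTrans.app v ≫ θ.hom.toNatTrans.app v = 𝟙 (σ.obj v) from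
        congrArg (fun t => t.toNatTrans.app v) θ.inv_hom_id, Category.id_comp]
    have hwk : w (v' k) (σ.map (d k) ≫ β) = PF.G.obj.mapTop b (PF.ι z tF) := by
      refine Eq.symm ((congrArg (PF.G.obj.mapTop b) htF).trans ((tW.2 b (zz k).hom).trans (congrArg (tW.1 _) ?_)))
      rw [← hb, ← Category.assoc (θ.hom.toNatTrans.app (v' k)),
        show θ.hom.toNatTrans.app (v' k) ≫ θ.inv.toNatTrans.app (v' k) = 𝟙 (τ.obj (i.obj (v' k))) from
        congrArg (fun t => t.toNatTrans.app (v' k)) θ.hom_inv_id]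
      exact (Category.id_comp _).symm
    show (u.hom.app (v' k)).app ⊤ ((ψ.app (v' k)).app ⊤ (castSec _ (w (v' k) (σ.map (d k) ≫ β)))) =
      s.1 (v' k) (σ.map (d k) ≫ β)
    rw [hwk, hev (v' k) z b tF, ← hb]
    have h3 := congrArg (fun T : HomFam i (O V) isCartesian_O G.obj (memObj z) =>
      (T.1 (v' k) b).app ⊤ (oneSec (v' k))) h2
    exact h3.trans (famOfSect_app _ _ _)
  exact (hs_one G.obj v _).symm.trans ((congrArg (fun k => k.app ⊤ (oneSec v)) key).trans (hs_one G.obj v _))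

end CohAffMorLib
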