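import Groth.Agent.CohAffMorLib.UnitDesc

/-!
# Good moduli spaces descend along flat surjective base change
-/

set_option autoImplicit false
set_option linter.style.haveILetI false
set_option backward.isDefEq.respectTransparency false
set_option backward.isDefEq.respectTransparency.types false
set_option maxHeartbeats 800000

universe u

open CategoryTheory CategoryTheory.Limits AlgebraicGeometry AlgSp AlgSpLib FibCat FibLib Opposite StMod GenDescLib

noncomputable section

namespace CohAffMorLib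

variable {S : Scheme.{u}}

/-- The restriction to an open is etale. -/
theorem repWith_objLeft {M : AlgSp.Sp S} {et : (AlgSt.ofSp M).obj} (h : RepWith @Etale (StPushLib.toM et))
    {Y : Scheme.{u}} (j : Y ⟶ et.base.left) [Etale j] :
    RepWith @Etale (StPushLib.toM (StPushLib.objLeft et j)) := by
  let jo : Over.mk (j ≫ et.base.hom) ⟶ et.base := Over.homMk j rfl
  have e : StPushLib.toM (StPushLib.objLeft et j) = (yon S).map jo ≫ StPushLib.toM et := by
    show (AlgSp.J S).uliftYonedaEquiv.symm (M.obj.map jo.op et.sec) = _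
    rw [StPushLib.map_sec_eq, Equiv.symm_apply_apply]
  rw [e]
  exact repWith_comp ((repWith_yon_map_iff (P := (@Etale : MorphismProperty Scheme.{u})) jo).2
    (inferInstance : Etale j)) h

/-- Over an affine etale object the unit is bijective if it is so after a flat surjective base change. -/
theorem bijective_unitSect_affine {𝒳 : AlgSt.Cat S} [IsFibGrpd 𝒳.p] {M M' : AlgSp.Sp S} (hM' : IsAlgSpace M')
    (g : M' ⟶ M) (hgf : AlgSp.LocP @Flat g) (hgs : AlgSp.IsSurjectiveMor g) (π : 𝒳 ⥤ᵇ AlgSt.ofSp M)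
    (hqc : AlgSt.IsQuasiCompactMor Scheme.fppfPrecoverage π) (hqs : AlgSt.IsQuasiSeparatedMor π)
    (h' : StMod.UnitIsIso (FibCat.fpFst (AlgSt.ofSpMap g) π)) (et : (AlgSt.ofSp M).obj)
    (het : RepWith @Etale (StPushLib.toM et)) (hE : IsAffine et.base.left) :
    Function.Bijective (unitSect π et) := by
  haveI : IsFibGrpd (AlgSt.ofSp M).p := Stk.isFibGrpd_ofPsh _
  haveI : IsAffine (sch (AlgSt.ofSp M) et) := hE
  obtain ⟨U', b, hb, hbs⟩ := hM'.atlas
  obtain ⟨W, p, q, sq⟩ := exists_isPullback_yon (StPushLib.toM et) (b ≫ g) het.rep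
  have hq : RepWith @Etale ((yon S).map q) := repWith_of_isPullback sq het
  let a : (yon S).obj W ⟶ M' := (yon S).map q ≫ b
  have ha : RepWith @Etale a := repWith_comp hq hb
  have hw : (yon S).map p ≫ StPushLib.toM et = a ≫ g := sq.w.trans (Category.assoc _ _ _).symm
  haveI : Flat p.left := hgf a (StPushLib.toM et) p ha het hw.symm
  have hps : ∀ v : et.base.left, ∃ w : W.left, p.left w = v := fun v => by
    obtain ⟨m', hm'⟩ := hgs (Points.ofPt (StPushLib.toM et) v)
    obtain ⟨u', hu'⟩ := surjective_ofPt hbs m'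
    obtain ⟨w, hw1, -⟩ := (ofPt_eq_ofPt_iff sq v u').1 (by rw [← Points.map_ofPt, hu', hm'])
    exact ⟨w, hw1⟩
  let Wj : W.left.affineOpens → Over S := fun U => Over.mk (U.1.ι ≫ W.hom)
  let ij : ∀ U, Wj U ⟶ W := fun U => Over.homMk U.1.ι rfl
  have hij : ∀ U, RepWith @Etale ((yon S).map (ij U) ≫ a) := fun U =>
    repWith_comp ((repWith_yon_map_iff (P := (@Etale : MorphismProperty Scheme.{u})) (ij U)).2
      (inferInstance : Etale U.1.ι)) ha
  let E' : W.left.affineOpens → EtOver M' := fun U => EtOver.mk ((yon S).map (ij U) ≫ a) (hij U)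
  let et' : W.left.affineOpens → (AlgSt.ofSp M).obj := fun U => (AlgSt.ofSpMap g).obj (etaOf (E' U))
  let m : ∀ U, et' U ⟶ et := fun U => ⟨ij U ≫ p, by
    refine (GrothendieckTopology.uliftYonedaEquiv.{u + 1} (AlgSp.J S)).symm.injective ?_
    rw [StPushLib.map_sec_eq, Equiv.symm_apply_apply]
    show _ = StPushLib.toM ((AlgSt.ofSpMap g).obj (etaOf (E' U)))
    rw [StPushLib.toM_map, StPushLib.toM_etaOf, Functor.map_comp, Category.assoc, hw]
    exact (Category.assoc _ _ _).symm⟩
  have haff : ∀ U, IsAffine (sch (AlgSt.ofSp M) (et' U)) := fun U => U.2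
  have hfl : ∀ U, Flat (bmap (AlgSt.ofSp M) (m U)) := fun U => by
    change Flat (U.1.ι ≫ p.left)
    infer_instance
  have hcov : ∀ t : sch (AlgSt.ofSp M) et, ∃ U, t ∈ Set.range (bmap (AlgSt.ofSp M) (m U)) := fun t => by
    obtain ⟨w, rfl⟩ := hps t
    obtain ⟨U, hU, hwU, -⟩ := exists_isAffineOpen_mem_and_subset (x := w) (U := ⊤) trivial
    exact ⟨⟨U, hU⟩, ⟨w, hwU⟩, rfl⟩
  obtain ⟨w0, r, pc, qc, hw0, hr, hW⟩ := exists_chartData hqc hqs et
  haveI := hw0
  exact bijective_unitSect_of_family hW et' haff m hfl hcov fun U =>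
    bijective_unitSect_of_fpFst g π (etaOf (E' U)) (h' (E' U))

/-- The functions being the invariant ones descends along flat surjective base change. -/
theorem unitIsIso_of_fpFst {𝒳 : AlgSt.Cat S} [IsFibGrpd 𝒳.p] {M M' : AlgSp.Sp S} (hM' : IsAlgSpace M')
    (g : M' ⟶ M) (hgf : AlgSp.LocP @Flat g) (hgs : AlgSp.IsSurjectiveMor g) (π : 𝒳 ⥤ᵇ AlgSt.ofSp M)
    (hqc : AlgSt.IsQuasiCompactMor Scheme.fppfPrecoverage π) (hqs : AlgSt.IsQuasiSeparatedMor π)
    (h' : StMod.UnitIsIso (FibCat.fpFst (AlgSt.ofSpMap g) π)) : StMod.UnitIsIso π := fun E =>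
  TameStLib.bijective_unitSect_of_opens π (etaOf E) fun U =>
    bijective_unitSect_affine hM' g hgf hgs π hqc hqs h' _
      (repWith_objLeft (by rw [StPushLib.toM_etaOf]; exact E.property) U.1.ι) U.2

end CohAffMorLib
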