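import Groth.Agent.CohAffMorLib.PostAffine
import Groth.Agent.CohAffMorLib.Cancel
import Groth.Agent.StPushLib.EtQc
import Groth.Agent.ResGerbeLib.Substack3
import Groth.Agent.ResGerbeLib.Map
import Groth.Agent.ResGerbeLib.Compare
import Groth.Agent.AlgStLib.NoethTop
import Groth.Agent.AlgStLib.LocQ5
import Groth.Agent.AlgSpLib.PointFactor
import Groth.Agent.AlgSpLib.DecentPoints
import Groth.Agent.AlgSpLib.SheafDesc
import Groth.Agent.CohAffMorLib.UnitBC.SecFunctor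
import Groth.Agent.IsoNatLib.Transfer
import Groth.Agent.TameStLib.Final

/-!
# Residual gerbes at closed points of stacks with a good moduli space
-/

set_option autoImplicit false
set_option linter.style.haveILetI false
set_option backward.isDefEq.respectTransparency false
set_option backward.isDefEq.respectTransparency.types false
set_option maxHeartbeats 1600000

universe u

open CategoryTheory CategoryTheory.Limits AlgebraicGeometry AlgSp AlgSpLib FibCat FibLib AlgStLib Opposite StMod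
open CategoryTheory.Functor (Fiber)

noncomputable section

namespace CohAffMorLib

variable {S : Scheme.{u}} {𝒳 : AlgSt.Cat S}

/-- A closed substack inclusion is affine. -/
theorem isAffineMor_closedImm {𝒴 : AlgSt.Cat S} {f : 𝒳 ⥤ᵇ 𝒴} (hf : AlgSt.IsClosedImm f) :
    AlgSt.RepByAlgSpWith IsAffineMor f :=
  AlgStLib.repByAlgSpWith_mono (fun _ _ _ _ _ h => isAffineMor_iff.2
    (repWith_mono (fun _ _ g (_ : IsClosedImmersion g) => (inferInstance : IsAffineHom g)) h)) hf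

/-- A closed substack of a locally Noetherian stack is locally Noetherian. -/
theorem locallyNoetherian_closedImm {𝒴 : AlgSt.Cat S} (h𝒳 : AlgSt.IsAlgStack Scheme.fppfPrecoverage 𝒳)
    (h𝒴 : AlgSt.IsAlgStack Scheme.fppfPrecoverage 𝒴) {f : 𝒳 ⥤ᵇ 𝒴} (hf : AlgSt.IsClosedImm f)
    (hN : AlgSt.SmoothLocally (fun T => IsLocallyNoetherian T) 𝒴) :
    AlgSt.SmoothLocally (fun T => IsLocallyNoetherian T) 𝒳 :=
  (noetherian_and_isQcM_of_isImm h𝒳 h𝒴 f (AlgStLib.repByAlgSpWith_mono (fun _ _ _ _ _ h =>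
    repWith_mono (fun _ _ g (_ : IsClosedImmersion g) => (inferInstance : IsImmersion g)) h) hf) hN).1

/-- The residual gerbe at a closed point of a locally Noetherian stack is a closed substack. -/
theorem isClosedImm_resGerbe (h𝒳 : AlgSt.IsAlgStack Scheme.fppfPrecoverage 𝒳)
    (hN : AlgSt.SmoothLocally (fun T => IsLocallyNoetherian T) 𝒳) {ξ : AlgSt.Points 𝒳}
    (hξ : IsClosed ({ξ} : Set (AlgSt.Points 𝒳))) {Q : 𝒳.obj → Prop}
    (hQ : Gerb.IsResGerbe Scheme.fppfPrecoverage 𝒳 ξ Q) : AlgSt.IsClosedImm (AlgSt.subIncl 𝒳 Q) := by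
  haveI := isFibGrpd_of_isAlgStack h𝒳
  obtain ⟨Q', ⟨hiso, hA, hcl⟩, hr, hred⟩ := ResGerbeLib.exists_reduced_closedSubstack h𝒳 {ξ} hξ
  haveI := isFibGrpd_of_isAlgStack hA
  haveI : IsFibGrpd (AlgSt.fullSub 𝒳 Q').p := isFibGrpd_of_isAlgStack hA
  have hmono : AlgSt.IsMono (AlgSt.subIncl 𝒳 Q') := AlgStLib.repByAlgSpWith_mono
    (fun _ _ _ _ _ h => mono_of_repWith (fun g (_ : IsClosedImmersion g) => inferInstance) h) hcl
  have hQ' : Gerb.IsResGerbe Scheme.fppfPrecoverage 𝒳 ξ Q' := by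
    refine ⟨hiso, hA, hred, locallyNoetherian_closedImm hA h𝒳 hcl hN, ?_, ⟨fun a b => ?_⟩, fun z => ?_⟩
    · obtain ⟨z, -⟩ : ξ ∈ Set.range (AlgSt.Points.map (AlgSt.subIncl 𝒳 Q')) := hr.symm ▸ rfl
      exact ⟨z⟩
    · have h1 : ∀ z, AlgSt.Points.map (AlgSt.subIncl 𝒳 Q') z = ξ := fun z => hr.subset ⟨z, rfl⟩
      exact AlgStLib.injective_of_isMono hmono ((h1 a).trans (h1 b).symm)
    · exact hr.subset ⟨z, rfl⟩
  have hid : AlgSt.Points.map (BasedFunctor.id 𝒳) ξ = ξ := AlgStLib.map_id ξ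
  have e : Q' = Q := funext fun o => propext
    ⟨fun ho => ResGerbeLib.mem_map h𝒳 h𝒳 (BasedFunctor.id 𝒳) hQ' (Q' := Q) (hid.symm ▸ hQ) ⟨o, ho⟩,
      fun ho => ResGerbeLib.mem_map h𝒳 h𝒳 (BasedFunctor.id 𝒳) hQ (Q' := Q') (hid.symm ▸ hQ') ⟨o, ho⟩⟩
  exact e ▸ hcl

variable {M : AlgSp.Sp S}

set_option maxHeartbeats 3200000 in
/-- A reduced stack over a space supported on one point factors through that point. -/
theorem exists_factor_point_stack {𝒢 : AlgSt.Cat S} (h𝒢 : AlgSt.IsAlgStack Scheme.fppfPrecoverage 𝒢)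
    (hred : AlgSt.SmoothLocally (fun T => IsReduced T) 𝒢) (hM : IsAlgSpace M) (f : 𝒢 ⥤ᵇ AlgSt.ofSp M)
    {x : Points M} (hf : ∀ z, ptsEquiv M (AlgSt.Points.map f z) = x) {P : FieldPt M} (hP : Points.mk P = x)
    (hm : Mono P.toHom) (hq : RepWith @QuasiCompact P.toHom) :
    ∃ l : 𝒢 ⥤ᵇ AlgSt.ofSch P.pt, Nonempty (BasedFunctor.comp l (AlgSt.ofSpMap P.toHom) ≅ f) := by
  haveI := isFibGrpd_of_isAlgStack h𝒢
  haveI hB : IsFibGrpd (AlgSt.ofSp M).p := Stk.isFibGrpd_ofPsh _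
  haveI := hm
  obtain ⟨U, x₀, hx, hxs⟩ := h𝒢.atlas
  haveI : IsFibGrpd (AlgSt.ofSch U).p := Stk.isFibGrpd_ofPsh _
  let x' := BasedFunctor.comp (AlgSt.toOverCat U) x₀
  have hredU : EtaleLocally (fun W => IsReduced W) ((yon S).obj U) :=
    ⟨U, 𝟙 _, repWith_id _ U, repWith_id _ U, hred U x₀ hx⟩
  obtain ⟨α⟩ := nonempty_iso_mapOf (BasedFunctor.comp x' f)
  let g : (yon S).obj U ⟶ M := ObjectProperty.homMk (mapOf (BasedFunctor.comp x' f))
  have hg : ∀ y, Points.map g y = x := fun y => by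
    obtain ⟨y, rfl⟩ := (ptsEquiv ((yon S).obj U)).surjective y
    rw [← hf (AlgSt.Points.map x' y), ← map_comp, map_congr α]
    exact (ptsEquiv_map g y).symm
  obtain ⟨l₀, hl₀⟩ := exists_factor_point hM (IsAlgSpace.yon_obj U) hP hm hq hredU hg
  have hσ : ∀ o : 𝒢.obj, ∃ q : (yon S).obj (𝒢.p.obj o) ⟶ (yon S).obj P.pt, q ≫ P.toHom = UnifModLib.σ f o := by
    intro o
    let ob : 𝒢.p.Fiber (𝒢.p.obj o) := Fiber.mk (p := 𝒢.p) (a := o) rfl
    haveI : IsFibGrpd (AlgSt.ofSch (𝒢.p.obj o)).p := Stk.isFibGrpd_ofPsh _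
    let u : AlgSt.ofSch (𝒢.p.obj o) ⥤ᵇ 𝒢 := BasedFunctor.comp (AlgSt.toOverCat _) (ofPoint ob)
    obtain ⟨β⟩ := nonempty_iso_mapOf (BasedFunctor.comp u f)
    let go : (yon S).obj (𝒢.p.obj o) ⟶ M := ObjectProperty.homMk (mapOf (BasedFunctor.comp u f))
    have hgo : go = UnifModLib.σ f o := by
      refine yEq.injective ?_
      rw [UnifModLib.yEq_σ]
      refine Eq.trans (b := AlgStLib.secOf (BasedFunctor.comp u f) ⟨𝒢.p.obj o, ⟨𝟙 _⟩⟩) rfl ?_
      obtain ⟨k⟩ := nonempty_evalAtId_ofPoint_iso ob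
      haveI := k.hom.2
      have h1 := secOf_naturality f k.hom.1
      rw [AlgStLib.secOf_comp]
      refine Eq.trans (congrArg (M.obj.map (eqToHom (u.w_obj _).symm).op) h1.symm) ?_
      rw [IsHomLift.fac' 𝒢.p (𝟙 (𝒢.p.obj o)) k.hom.1]
      refine (Functor.map_comp_apply M.obj _ _ _).symm.trans ?_
      erw [← op_comp]
      refine Eq.trans (congrArg (fun t => M.obj.map (Quiver.Hom.op t) (secOf f o)) (?_ : _ = 𝟙 _))
        (FunctorToTypes.map_id_apply _ _)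
      simp [eqToHom_trans]
    obtain ⟨H, a, hH, ⟨e, he, ⟨β₁⟩⟩, ha⟩ := exists_along_test (P := LocP @Smooth ⊓ IsSurjectiveMor)
      (good_smooth.inf good_surjective).bc (good_smooth.inf good_surjective).test
      (f := x') (repByAlgSpWith_inf good_surjective.bc.precomp_iso (repByAlgSpWith_toOverCat_comp hx)
        (repByAlgSpWith_toOverCat_comp hxs))
      (IsAlgSpace.yon_obj (𝒢.p.obj o)) u
    obtain ⟨W, b, hb, hbs⟩ := hH.atlas
    obtain ⟨c, hc⟩ := (yon S).map_surjective (b ≫ a)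
    have hcs : LocP @Smooth ((yon S).map c) := by
      rw [hc]
      exact locP_comp (IsAlgSpace.yon_obj W) hH (IsAlgSpace.yon_obj _)
        (locP_smooth_of_isEtaleMor (isEtaleMor_of_repWith hb)) ha.1
    haveI : Smooth c.left := (locP_yon_map_iff c).1 hcs
    haveI : Surjective c.left := IsoNatLib.surjective_left_of_isSurjectiveMor (h := c) (by
      rw [hc]
      intro y
      obtain ⟨y', hy'⟩ := ha.2 y
      obtain ⟨y'', hy''⟩ := map_surjective_of_repWith hbs y'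
      exact ⟨y'', by rw [Points.map_comp, hy'', hy']⟩)
    haveI : Sheaf.IsLocallySurjective ((yon S).map c) := isLocallySurjective_of_repWith
      ((AlgSp.repWith_yon_map_iff (P := (@Flat : MorphismProperty Scheme.{u})) c).2 inferInstance)
      ((AlgSp.repWith_yon_map_iff (P := (@LocallyOfFinitePresentation : MorphismProperty Scheme.{u})) c).2 inferInstance)
      ((AlgSp.repWith_yon_map_iff (P := (@Surjective : MorphismProperty Scheme.{u})) c).2 inferInstance)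
    let e₂ := BasedFunctor.comp e (fpSnd u x')
    obtain ⟨γ⟩ := nonempty_iso_mapOf e₂
    let h₂ : H ⟶ (yon S).obj U := ObjectProperty.homMk (mapOf e₂)
    have hag : a ≫ go = h₂ ≫ g := ObjectProperty.hom_ext _ (by
      show a.hom ≫ mapOf (BasedFunctor.comp u f) = mapOf e₂ ≫ mapOf (BasedFunctor.comp x' f)
      have i1 : Stk.ofPshMap (a.hom ≫ mapOf (BasedFunctor.comp u f)) ≅
          Stk.ofPshMap (mapOf e₂ ≫ mapOf (BasedFunctor.comp x' f)) :=
        eqToIso (ofPshMap_comp _ _) ≪≫ whiskerLeftIso' _ β.symm ≪≫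
          whiskerRightIso' β₁.symm (BasedFunctor.comp u f) ≪≫
          whiskerLeftIso' e (whiskerRightIso' (fpIso u x') f) ≪≫
          whiskerRightIso' γ (BasedFunctor.comp x' f) ≪≫ whiskerLeftIso' _ α ≪≫ (eqToIso (ofPshMap_comp _ _)).symm
      have := mapOf_congr i1
      rwa [mapOf_ofPshMap, mapOf_ofPshMap] at this)
    have key : (b ≫ h₂ ≫ l₀) ≫ P.toHom = (yon S).map c ≫ go := by
      rw [hc, Category.assoc, Category.assoc, hl₀, Category.assoc, hag]
    obtain ⟨q, hq'⟩ := exists_desc ((yon S).map c) (b ≫ h₂ ≫ l₀) fun T' b₁ b₂ eb => (cancel_mono P.toHom).1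
      ((Category.assoc _ _ _).trans ((congrArg (b₁ ≫ ·) key).trans ((reassoc_of% eb) go |>.trans
        ((congrArg (b₂ ≫ ·) key).symm.trans (Category.assoc _ _ _).symm))))
    refine ⟨q, hgo ▸ (cancel_epi ((yon S).map c)).1 ?_⟩
    rw [← Category.assoc, hq', key]
  choose q hq₁ using hσ
  refine ⟨CohAffMorLib.UnitBC.funOfSec q (fun {a b} φ => (cancel_mono P.toHom).1 (by
    rw [Category.assoc, hq₁, hq₁, UnifModLib.σ_nat])), nonempty_iso_of_sec fun o => ?_⟩
  rw [secOf_comp_map, CohAffMorLib.UnitBC.secOf_funOfSec, ← yEq_comp, hq₁, UnifModLib.yEq_σ]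

variable {π : 𝒳 ⥤ᵇ AlgSt.ofSp M}

set_option maxHeartbeats 3200000 in
/-- The residual gerbe at a closed point is cohomologically affine over an affine base. -/
theorem isCohAffine_resGerbe_closed [IsAffine S] (h𝒳 : AlgSt.IsAlgStack Scheme.fppfPrecoverage 𝒳)
    (hM : IsAlgSpace M) (hMs : IsQuasiSeparatedSp M)
    (hqc : AlgSt.IsQuasiCompactMor Scheme.fppfPrecoverage π) (hqs : AlgSt.IsQuasiSeparatedMor π)
    (h : StMod.IsCohAffine π) (hN : AlgSt.SmoothLocally (fun T => IsLocallyNoetherian T) 𝒳)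
    {ξ : AlgSt.Points 𝒳} (hξ : IsClosed ({ξ} : Set (AlgSt.Points 𝒳))) {Q : 𝒳.obj → Prop}
    (hQ : Gerb.IsResGerbe Scheme.fppfPrecoverage 𝒳 ξ Q)
    (σ : AlgSt.fullSub 𝒳 Q ⥤ᵇ AlgSt.ofSch (Over.mk (𝟙 S))) :
    StMod.IsCohAffine σ ∧ AlgSt.IsQuasiCompactMor Scheme.fppfPrecoverage σ := by
  haveI := isFibGrpd_of_isAlgStack h𝒳
  haveI hB : IsFibGrpd (AlgSt.ofSp M).p := Stk.isFibGrpd_ofPsh _
  have hA : AlgSt.IsAlgStack Scheme.fppfPrecoverage (AlgSt.fullSub 𝒳 Q) := hQ.2.1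
  haveI := isFibGrpd_of_isAlgStack hA
  have hcl := isClosedImm_resGerbe h𝒳 hN hξ hQ
  have hi := isAffineMor_closedImm hcl
  let f : AlgSt.fullSub 𝒳 Q ⥤ᵇ AlgSt.ofSp M := BasedFunctor.comp (AlgSt.subIncl 𝒳 Q) π
  obtain ⟨P, hP, hm, hPq⟩ := isDecent_of_isQuasiSeparatedSp hM hMs (ptsEquiv M (AlgSt.Points.map π ξ))
  obtain ⟨l, ⟨θ⟩⟩ := exists_factor_point_stack hA hQ.2.2.1 hM f (x := ptsEquiv M (AlgSt.Points.map π ξ))
    (fun z => by rw [map_comp, hQ.2.2.2.2.2.2 z]) hP hm hPq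
  obtain ⟨U0, x, hx, hxs⟩ := h𝒳.atlas
  have hca : StMod.IsCohAffine (BasedFunctor.comp l (AlgSt.ofSpMap P.toHom)) := fun F G u hu E hE =>
    surjective_relSectMap_comp (AlgSt.subIncl 𝒳 Q) hi (StPushLib.flatSys_atlas x hx hxs) π _ θ.symm h u hu E hE
  have hMas := isAlgStack_ofSp hM
  have hiqc : AlgSt.IsQuasiCompactMor Scheme.fppfPrecoverage (AlgSt.subIncl 𝒳 Q) :=
    (isQcM_iff_rep hA h𝒳 (repByAlgSp1_of_with hi)).mp
      (AlgStLib.repByAlgSpWith_mono (fun _ _ _ hH hG h => isQuasiCompactMor_of_repWith hH hG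
        (repWith_mono (fun _ _ g (_ : IsAffineHom g) => (inferInstance : QuasiCompact g)) (isAffineMor_iff.1 h))) hi)
  have hiqs : AlgSt.RepByAlgSpWith (IsQuasiCompactMor ⊓ IsQuasiSeparatedMor) (FibCat.diag (AlgSt.subIncl 𝒳 Q)) :=
    (isQuasiSeparatedMor_iff_rep (repByAlgSp1_of_with hi)).mpr (AlgStLib.repByAlgSpWith_mono (fun H U a hH hU ha =>
      haveI : Mono a := mono_of_repWith (fun g (_ : IsClosedImmersion g) => inferInstance) ha
      haveI := prop_diagonal_mono hH a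
      repWith_of_isIso _) hcl)
  have hfqc : AlgSt.IsQuasiCompactMor Scheme.fppfPrecoverage f := isQcM_comp hA h𝒳 hMas hiqc hqc
  have hfqs : AlgSt.IsQuasiSeparatedMor f := repByAlgSpWith_diag_comp (good_qc.inf good_qs) hiqs hqs
  have hlca : StMod.IsCohAffine l := isCohAffine_of_comp hA (IsAlgSpace.yon_obj _) hM (StPushLib.qcProd_space hM hMs)
    l P.toHom
    (isAffineMor_iff.2 (haveI := hm; haveI : IsIso (pullback.diagonal P.toHom) := inferInstance; repWith_of_isIso _))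
    (isQcM_congr hA hMas θ.symm hfqc) (repByAlgSpWith_diag_congr θ hfqs) hca
  haveI : IsAffine P.pt.left := inferInstanceAs (IsAffine (Spec (CommRingCat.of P.K)))
  refine ⟨isCohAffine_to_base l hlca σ, ?_⟩
  have hq : AlgSt.IsQuasiCompact (AlgSt.fullSub 𝒳 Q) := by
    haveI := hQ.2.2.2.2.2.1
    exact isQuasiCompact_of_compactSpace hA.atlas ⟨(Set.subsingleton_univ).isCompact⟩
  have hS := isAlgStack_ofSch (Over.mk (𝟙 S))
  haveI : IsAffine (Over.mk (𝟙 S)).left := inferInstanceAs (IsAffine S)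
  exact isQcM_of_isQuasiCompact hA hS σ hq (TameStLib.qcqs_diag_toSelf_of_isAffine _)

end CohAffMorLib
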