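import Groth.Agent.CohAffMorLib.Term

/-!
# Cohomological affineness over a scheme affine over the base
-/

set_option autoImplicit false
set_option linter.style.haveILetI false
set_option backward.isDefEq.respectTransparency false
set_option backward.isDefEq.respectTransparency.types false
set_option maxHeartbeats 1600000

universe u

open StPushLib (map_hom)
open CategoryTheory CategoryTheory.Limits AlgebraicGeometry AlgSp AlgSpLib FibCat FibLib AlgStLib Opposite StMod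

noncomputable section

namespace CohAffMorLib

variable {S : Scheme.{u}} [IsAffine S] {V : AlgSt.Cat S} {T : Over S}

set_option maxHeartbeats 3200000 in
/-- A stack cohomologically affine over an affine scheme is so over the base. -/
theorem isCohAffine_to_base [IsAffine T.left] (l : V ⥤ᵇ AlgSt.ofSch T) (hl : StMod.IsCohAffine l)
    (σ : V ⥤ᵇ AlgSt.ofSch (Over.mk (𝟙 S))) : StMod.IsCohAffine σ := by
  intro F G u hu E hE s
  haveI : IsAffine E.obj.left.left := hE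
  obtain ⟨a, ha⟩ := (yon S).map_surjective E.obj.hom
  haveI : Etale a.left := (AlgSp.repWith_yon_map_iff (P := (@Etale : MorphismProperty Scheme.{u})) a).1
    (by rw [ha]; exact E.property)
  haveI : Etale E.obj.left.hom := by
    have : a.left ≫ 𝟙 S = E.obj.left.hom := Over.w a
    rw [← this]
    exact MorphismProperty.comp_mem @Etale a.left (𝟙 S) ‹Etale a.left› (inferInstanceAs (Etale (𝟙 S)))
  let P : Scheme.{u} := pullback E.obj.left.hom T.hom
  haveI : IsAffineHom E.obj.left.hom := inferInstance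
  haveI : IsAffine P := isAffine_of_isAffineHom (pullback.snd E.obj.left.hom T.hom)
  let PS : Over S := Over.mk (pullback.fst E.obj.left.hom T.hom ≫ E.obj.left.hom)
  let p₁ : PS ⟶ E.obj.left := Over.homMk (pullback.fst _ _) rfl
  let p₂ : PS ⟶ T := Over.homMk (pullback.snd _ _) pullback.condition.symm
  haveI : Etale p₂.left := inferInstanceAs (Etale (pullback.snd E.obj.left.hom T.hom))
  let E' : EtOver ((yon S).obj T) := EtOver.mk ((yon S).map p₂)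
    ((AlgSp.repWith_yon_map_iff (P := (@Etale : MorphismProperty Scheme.{u})) p₂).2 inferInstance)
  let η : (AlgSt.ofSch (Over.mk (𝟙 S))).obj := etaOf E
  let η' : (AlgSt.ofSch T).obj := etaOf E'
  have hη' : η'.sec = (⟨p₂⟩ : ((yon S).obj T).obj.obj (op PS)) := ULift.ext _ _ (Category.id_comp p₂)
  have hb : ∀ ξ, (σ.obj ξ).base = (l.obj ξ).base := fun ξ => (σ.w_obj ξ).trans (l.w_obj ξ).symm
  let fwd : ∀ ξ, (l.obj ξ ⟶ η') → (σ.obj ξ ⟶ η) := fun ξ α => ⟨eqToHom (hb ξ) ≫ α.hom ≫ p₁,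
    ULift.ext _ _ (hom_to_final _ _)⟩
  let lft : ∀ ξ, (σ.obj ξ ⟶ η) → (V.p.obj ξ ⟶ PS) := fun ξ α => Over.homMk
    (pullback.lift (eqToHom (σ.w_obj ξ).symm ≫ α.hom).left
      (eqToHom (l.w_obj ξ).symm ≫ (l.obj ξ).sec.down).left
      ((Over.w (eqToHom (σ.w_obj ξ).symm ≫ α.hom)).trans
        (Over.w (eqToHom (l.w_obj ξ).symm ≫ (l.obj ξ).sec.down)).symm))
    (by
      show pullback.lift _ _ _ ≫ pullback.fst _ _ ≫ E.obj.left.hom = _
      rw [pullback.lift_fst_assoc]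
      exact Over.w (eqToHom (σ.w_obj ξ).symm ≫ α.hom))
  have hlft₁ : ∀ ξ α, lft ξ α ≫ p₁ = eqToHom (σ.w_obj ξ).symm ≫ α.hom := fun ξ α =>
    Over.OverMorphism.ext (pullback.lift_fst _ _ _)
  have hlft₂ : ∀ ξ α, lft ξ α ≫ p₂ = eqToHom (l.w_obj ξ).symm ≫ (l.obj ξ).sec.down := fun ξ α =>
    Over.OverMorphism.ext (pullback.lift_snd _ _ _)
  let bwd : ∀ ξ, (σ.obj ξ ⟶ η) → (l.obj ξ ⟶ η') := fun ξ α => ⟨eqToHom (l.w_obj ξ) ≫ lft ξ α, by
    rw [hη']
    refine ULift.ext _ _ ?_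
    show (eqToHom (l.w_obj ξ) ≫ lft ξ α) ≫ p₂ = (l.obj ξ).sec.down
    rw [Category.assoc, hlft₂, eqToHom_trans_assoc, eqToHom_refl, Category.id_comp]⟩
  have hfb : ∀ ξ α, fwd ξ (bwd ξ α) = α := fun ξ α => Stk.EltObj.hom_ext (by
    show eqToHom (hb ξ) ≫ (eqToHom (l.w_obj ξ) ≫ lft ξ α) ≫ p₁ = α.hom
    rw [Category.assoc, hlft₁, eqToHom_trans_assoc, eqToHom_trans_assoc, eqToHom_refl, Category.id_comp])
  have hsec : ∀ ξ (α : l.obj ξ ⟶ η'), α.hom ≫ p₂ = (l.obj ξ).sec.down := fun ξ α => by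
    have h := α.map_sec
    rw [hη'] at h
    exact congrArg ULift.down h
  have hext : ∀ (X : Over S) (f g : X ⟶ PS), f ≫ p₁ = g ≫ p₁ → f ≫ p₂ = g ≫ p₂ → f = g := fun X f g h1 h2 =>
    Over.OverMorphism.ext (pullback.hom_ext (congrArg CommaMorphism.left h1) (congrArg CommaMorphism.left h2))
  have hfnat : ∀ {ξ' ξ : V.obj} (φ : ξ' ⟶ ξ) (α : l.obj ξ ⟶ η'),
      σ.map φ ≫ fwd ξ α = fwd ξ' (l.map φ ≫ α) := fun {ξ' ξ} φ α => Stk.EltObj.hom_ext (by
    show (σ.map φ).hom ≫ eqToHom (hb ξ) ≫ α.hom ≫ p₁ = eqToHom (hb ξ') ≫ ((l.map φ).hom ≫ α.hom) ≫ p₁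
    rw [map_hom, map_hom]
    simp)
  have hbnat : ∀ {ξ' ξ : V.obj} (φ : ξ' ⟶ ξ) (α : σ.obj ξ ⟶ η),
      l.map φ ≫ bwd ξ α = bwd ξ' (σ.map φ ≫ α) := fun {ξ' ξ} φ α => Stk.EltObj.hom_ext (by
    refine hext _ _ _ ?_ ?_
    · show ((l.map φ).hom ≫ eqToHom (l.w_obj ξ) ≫ lft ξ α) ≫ p₁ = (eqToHom (l.w_obj ξ') ≫ lft ξ' _) ≫ p₁
      rw [Category.assoc, Category.assoc, Category.assoc, hlft₁, hlft₁]
      show _ = eqToHom (l.w_obj ξ') ≫ eqToHom (σ.w_obj ξ').symm ≫ (σ.map φ).hom ≫ α.hom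
      rw [map_hom, map_hom]
      simp
    · show ((l.map φ).hom ≫ eqToHom (l.w_obj ξ) ≫ lft ξ α) ≫ p₂ = (eqToHom (l.w_obj ξ') ≫ lft ξ' _) ≫ p₂
      rw [Category.assoc, Category.assoc, Category.assoc, hlft₂, hlft₂]
      simp only [eqToHom_trans_assoc, eqToHom_refl, Category.id_comp]
      exact congrArg ULift.down (l.map φ).map_sec)
  let s' : Mod.RelSect l G.obj η' := ⟨fun ξ α => s.1 ξ (fwd ξ α), fun ξ' ξ φ α =>
    (s.2 φ (fwd ξ α)).trans (congrArg (s.1 ξ') (hfnat φ α))⟩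
  obtain ⟨t, ht⟩ := hl u hu E' (inferInstanceAs (IsAffine P)) s'
  refine ⟨⟨fun ξ α => t.1 ξ (bwd ξ α), fun ξ' ξ φ α => (t.2 φ (bwd ξ α)).trans (congrArg (t.1 ξ') (hbnat φ α))⟩, ?_⟩
  refine Mod.RelSect.ext _ _ _ fun ξ α => ?_
  have h1 := congrArg (fun r : Mod.RelSect l G.obj η' => r.1 ξ (bwd ξ α)) ht
  exact h1.trans (congrArg (s.1 ξ) (hfb ξ α))

end CohAffMorLib
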