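import Groth.Agent.CohAffMorLib.Comp
import Groth.Agent.StPushLib.Atlas
import Groth.Agent.AlgStLib.QcMor

/-!
# Cohomological affineness over the base along affine morphisms
-/

set_option autoImplicit false
set_option linter.style.haveILetI false
set_option backward.isDefEq.respectTransparency false
set_option backward.isDefEq.respectTransparency.types false
set_option maxHeartbeats 800000

universe u

open CategoryTheory CategoryTheory.Limits AlgebraicGeometry AlgSp AlgSpLib FibCat FibLib AlgStLib Opposite StMod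
open StPushLib (AtlasMem flatSys_atlas map_hom)

noncomputable section

namespace CohAffMorLib

variable {S : Scheme.{u}} {V : AlgSt.Cat S}

theorem hom_to_final {T : Over S} (f g : T ⟶ Over.mk (𝟙 S)) : f = g :=
  Over.OverMorphism.ext (((Category.comp_id f.left).symm.trans (Over.w f)).trans
    ((Category.comp_id g.left).symm.trans (Over.w g)).symm)

/-- The components of the isomorphism of two functors to the final object. -/
def toFinalApp (a b : V ⥤ᵇ AlgSt.ofSch (Over.mk (𝟙 S))) (v : V.obj) : a.obj v ≅ b.obj v where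
  hom := ⟨eqToHom ((a.w_obj v).trans (b.w_obj v).symm), ULift.ext _ _ (hom_to_final _ _)⟩
  inv := ⟨eqToHom ((b.w_obj v).trans (a.w_obj v).symm), ULift.ext _ _ (hom_to_final _ _)⟩
  hom_inv_id := Stk.EltObj.hom_ext (by
    show eqToHom ((a.w_obj v).trans (b.w_obj v).symm) ≫ eqToHom ((b.w_obj v).trans (a.w_obj v).symm) =
      𝟙 (a.obj v).base
    simp)
  inv_hom_id := Stk.EltObj.hom_ext (by
    show eqToHom ((b.w_obj v).trans (a.w_obj v).symm) ≫ eqToHom ((a.w_obj v).trans (b.w_obj v).symm) =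
      𝟙 (b.obj v).base
    simp)

/-- Any two functors to the final object are isomorphic. -/
def toFinalIso (a b : V ⥤ᵇ AlgSt.ofSch (Over.mk (𝟙 S))) : a ≅ b :=
  BasedNatIso.mkNatIso
    (NatIso.ofComponents (toFinalApp a b)
      fun {v' v} d => Stk.EltObj.hom_ext (by
        show (a.map d).hom ≫ eqToHom ((a.w_obj v).trans (b.w_obj v).symm) =
          eqToHom ((a.w_obj v').trans (b.w_obj v').symm) ≫ (b.map d).hom
        rw [map_hom, map_hom]
        simp))
    fun v => IsHomLift.of_fac' _ _ _ (a.w_obj v) (b.w_obj v) (by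
      show eqToHom ((a.w_obj v).trans (b.w_obj v).symm) = _
      simp)

variable {W : AlgSt.Cat S} [IsFibGrpd V.p]

/-- An affine morphism to a cohomologically affine stack has cohomologically affine source. -/
theorem isCohAffine_of_affine (hW : AlgSt.IsAlgStack Scheme.fppfPrecoverage W) (i : V ⥤ᵇ W)
    (hi : AlgSt.RepByAlgSpWith IsAffineMor i) (τ : W ⥤ᵇ AlgSt.ofSch (Over.mk (𝟙 S))) (h : StMod.IsCohAffine τ)
    (σ : V ⥤ᵇ AlgSt.ofSch (Over.mk (𝟙 S))) : StMod.IsCohAffine σ := by
  haveI := isFibGrpd_of_isAlgStack hW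
  obtain ⟨U0, x, hx, hxs⟩ := hW.atlas
  intro F G u hu E hE
  exact surjective_relSectMap_comp i hi (flatSys_atlas x hx hxs) τ σ (toFinalIso _ σ) h u hu E hE

/-- It is quasi-compact. -/
theorem isQuasiCompactMor_of_affine (hV : AlgSt.IsAlgStack Scheme.fppfPrecoverage V)
    (hW : AlgSt.IsAlgStack Scheme.fppfPrecoverage W) (i : V ⥤ᵇ W) (hi : AlgSt.RepByAlgSpWith IsAffineMor i)
    (τ : W ⥤ᵇ AlgSt.ofSch (Over.mk (𝟙 S))) (hτ : AlgSt.IsQuasiCompactMor Scheme.fppfPrecoverage τ)
    (σ : V ⥤ᵇ AlgSt.ofSch (Over.mk (𝟙 S))) : AlgSt.IsQuasiCompactMor Scheme.fppfPrecoverage σ := by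
  have hS := isAlgStack_ofSch (Over.mk (𝟙 S))
  refine isQcM_congr hV hS (toFinalIso (BasedFunctor.comp i τ) σ) (isQcM_comp (f := i) hV hW hS ?_ hτ)
  exact (isQcM_iff_rep hV hW (repByAlgSp1_of_with hi)).mp
    (repByAlgSpWith_mono (fun _ _ _ hH hG h => isQuasiCompactMor_of_repWith hH hG
      (repWith_mono (fun _ _ g (_ : IsAffineHom g) => (inferInstance : QuasiCompact g)) (isAffineMor_iff.1 h))) hi)

end CohAffMorLib
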