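import Groth.Agent.CohAffLib.Main
import Groth.Agent.TameStLib.Local
import Groth.Agent.TameStLib.Fam
import Groth.Agent.StPushLib.CohBC
import Groth.Agent.GenDescLib.Sections

/-!
# Functions being the invariant functions descends along flat surjective base change
-/

set_option autoImplicit false
set_option linter.style.haveILetI false
set_option backward.isDefEq.respectTransparency false
set_option backward.isDefEq.respectTransparency.types false
set_option maxHeartbeats 800000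

universe u

open CategoryTheory CategoryTheory.Limits AlgebraicGeometry AlgSp AlgSpLib FibCat FibLib Opposite StMod GenDescLib
open scoped TensorProduct

noncomputable section

namespace CohAffMorLib

variable {S : Scheme.{u}} {𝒳 : AlgSt.Cat S}

section Desc

variable [IsFibGrpd 𝒳.p] {M : AlgSp.Sp S} {π : 𝒳 ⥤ᵇ AlgSt.ofSp M}

/-- Bijectivity of the unit descends along flat jointly surjective affine families. -/
theorem bijective_unitSect_of_family {et : (AlgSt.ofSp M).obj} [IsAffine (sch (AlgSt.ofSp M) et)]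
    {w0 r : (fibCat π et).obj} {p q : r ⟶ w0} (hW : Chart (fibCat π et) w0 r p q)
    [IsAffine (sch (fibCat π et) w0)] [IsFibGrpd (AlgSt.ofSp M).p]
    {κ : Type u} (et' : κ → (AlgSt.ofSp M).obj) (haff : ∀ j, IsAffine (sch (AlgSt.ofSp M) (et' j)))
    (m : ∀ j, et' j ⟶ et) (hfl : ∀ j, Flat (bmap (AlgSt.ofSp M) (m j)))
    (hsurj : ∀ t : sch (AlgSt.ofSp M) et, ∃ j, t ∈ Set.range (bmap (AlgSt.ofSp M) (m j)))
    (h : ∀ j, Function.Bijective (unitSect π (et' j))) : Function.Bijective (unitSect π et) := by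
  haveI := haff; haveI := hfl
  let T := Γ(sch (AlgSt.ofSp M) et, ⊤)
  letI : ∀ j, Algebra T Γ(sch (AlgSt.ofSp M) (et' j), ⊤) := fun j => (bmap (AlgSt.ofSp M) (m j)).appTop.hom.toAlgebra
  haveI : ∀ j, Module.Flat T Γ(sch (AlgSt.ofSp M) (et' j), ⊤) := fun j => by
    have h1 : (bmap (AlgSt.ofSp M) (m j)).appTop.hom.Flat := HasRingHomProperty.appTop (P := @Flat) _ (hfl j)
    exact h1
  have hres : ∀ j (a : T) (ξ : 𝒳.obj) (α : π.obj ξ ⟶ et' j), (unitSect π et a).1 ξ (α ≫ m j) =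
      (unitSect π (et' j) ((bmap (AlgSt.ofSp M) (m j)).appTop a)).1 ξ α := fun j a ξ α =>
    TameStLib.unitSect_res π (m j) a ξ α
  have hcov := CohAffLib.exists_prime_of_surj (fun j => bmap (AlgSt.ofSp M) (m j)) hsurj
  refine ⟨fun a b e => sub_eq_zero.1 ?_, fun s => ?_⟩
  · refine CohAffLib.eq_zero_of_tmul_family (fun j => Γ(sch (AlgSt.ofSp M) (et' j), ⊤)) hcov (a - b) fun j => ?_
    have e' : (bmap (AlgSt.ofSp M) (m j)).appTop a = (bmap (AlgSt.ofSp M) (m j)).appTop b :=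
      (h j).1 (Mod.RelSect.ext _ _ _ fun ξ α =>
        (hres j a ξ α).symm.trans ((congrArg (fun t : (O 𝒳).RelSect π et => t.1 ξ (α ≫ m j)) e).trans (hres j b ξ α)))
    refine (TensorProduct.rid T Γ(sch (AlgSt.ofSp M) (et' j), ⊤)).injective ?_
    rw [map_zero, TensorProduct.rid_tmul, Algebra.smul_def, mul_one]
    show (bmap (AlgSt.ofSp M) (m j)).appTop (a - b) = 0
    rw [map_sub, e', sub_self]
  let B0 := Γ(sch (fibCat π et) w0, ⊤)
  letI : Algebra T B0 := (fibBase w0).appTop.hom.toAlgebra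
  letI : Module T Γ((O (fibCat π et)).obj w0, ⊤) := Module.compHom _ (fibBase w0).appTop.hom
  let sv : Γ((O (fibCat π et)).obj w0, ⊤) := s.1 w0.left w0.hom
  let one0 : Γ((O (fibCat π et)).obj w0, ⊤) := (1 : B0)
  let U : T →ₗ[T] Γ((O (fibCat π et)).obj w0, ⊤) := LinearMap.toSpanSingleton T _ one0
  have hU : ∀ a : T, U a = (fibBase w0).appTop a := fun a => mul_one ((fibBase w0).appTop a)
  suffices H : sv ∈ LinearMap.range U by
    obtain ⟨a, ha⟩ := H
    refine ⟨a, TameStLib.relSect_ext_chart hW (OQ (𝒳 := 𝒳)) _ _ ?_⟩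
    show (fibBase w0).appTop a = sv
    exact (hU a).symm.trans ha
  rw [← Submodule.Quotient.mk_eq_zero]
  refine CohAffLib.eq_zero_of_tmul_family (fun j => Γ(sch (AlgSt.ofSp M) (et' j), ⊤)) hcov _ fun j => ?_
  let τ := bmap (AlgSt.ofSp M) (m j)
  obtain ⟨w0', e, k, hk, hb⟩ := exists_over (m j) w0 _ (pullback.fst (fibBase w0) τ) (pullback.snd (fibBase w0) τ)
    pullback.condition
  have sqk : IsPullback (bmap (fibCat π et) k) (fibBase w0') (fibBase w0) τ :=
    IsPullback.of_iso_pullback ⟨by rw [hk, hb, Category.assoc, Category.assoc, pullback.condition]⟩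
      (eqToIso e) hk.symm hb.symm
  let x0 := (fibMap π (m j)).obj w0'
  let A' := Γ(sch (AlgSt.ofSp M) (et' j), ⊤)
  letI : Module A' Γ((O (fibCat π et)).obj x0, ⊤) := Module.compHom _ (fibBase w0').appTop.hom
  letI : Module T Γ((O (fibCat π et)).obj x0, ⊤) :=
    Module.compHom _ ((fibBase w0').appTop.hom.comp τ.appTop.hom)
  haveI : IsScalarTower T A' Γ((O (fibCat π et)).obj x0, ⊤) := IsScalarTower.of_algebraMap_smul fun _ _ => rfl
  have hcomp : ∀ {X Y Z : Scheme.{u}} (f : X ⟶ Y) (g : Y ⟶ Z) (a : Γ(Z, ⊤)),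
      (f ≫ g).appTop a = f.appTop (g.appTop a) := fun f g a => by rw [Scheme.Hom.comp_appTop]; rfl
  let kO : Γ((O (fibCat π et)).obj w0, ⊤) →ₗ[T] Γ((O (fibCat π et)).obj x0, ⊤) :=
    { toFun := (O (fibCat π et)).mapTop k
      map_add' := (O (fibCat π et)).mapTop_add k
      map_smul' := fun a z => by
        show (O (fibCat π et)).mapTop k ((fibBase w0).appTop a • z) =
          (fibBase w0').appTop (τ.appTop a) • (O (fibCat π et)).mapTop k z
        rw [Mod.mapTop_smul, ← hcomp, sqk.w, hcomp]; rfl }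
  have hkO : IsBaseChange A' kO := isBaseChange_mapTop (O (fibCat π et)) (OQ (𝒳 := fibCat π et)).property.1
    (OQ (𝒳 := fibCat π et)).property.2 k τ (fibBase w0) (fibBase w0') sqk rfl (fun _ _ => rfl) (fun _ _ => rfl)
    kO fun _ => rfl
  -- the section over the base change
  let s' : (O 𝒳).RelSect π (et' j) := ⟨fun ξ α => s.1 ξ (α ≫ m j), fun ξ' ξ φ α => by
    rw [s.2 φ (α ≫ m j)]; exact congrArg (s.1 ξ') (Category.assoc _ _ _).symm⟩
  obtain ⟨a', ha'⟩ := (h j).2 s'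
  have hkv : kO sv = a' • kO one0 := by
    have h1 : kO sv = s.1 x0.left x0.hom := (s.2 k.left w0.hom).trans
      (congrArg (s.1 x0.left) (CostructuredArrow.w k))
    have h2 : (fibBase w0').appTop a' = s.1 x0.left x0.hom :=
      congrArg (fun t : (O 𝒳).RelSect π (et' j) => t.1 w0'.left w0'.hom) ha'
    let one1 : Γ((O (fibCat π et)).obj x0, ⊤) := (1 : Γ(sch (fibCat π et) x0, ⊤))
    have h3 : kO one0 = one1 := by
      show (O (fibCat π et)).mapTop k one0 = _
      rw [O_mapTop]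
      exact (bmap (fibCat π et) k).appTop.hom.map_one
    rw [h1, h3, ← h2]
    exact (mul_one ((fibBase w0').appTop a')).symm
  let Ψ : Γ((O (fibCat π et)).obj x0, ⊤) →ₗ[A'] A' ⊗[T] (Γ((O (fibCat π et)).obj w0, ⊤) ⧸ LinearMap.range U) :=
    ((LinearMap.range U).mkQ.baseChange A') ∘ₗ hkO.equiv.symm.toLinearMap
  have hΨ : ∀ z, Ψ (kO z) = (1 : A') ⊗ₜ[T] (LinearMap.range U).mkQ z := fun z => by
    show ((LinearMap.range U).mkQ.baseChange A') (hkO.equiv.symm (kO z)) = _
    rw [hkO.equiv_symm_apply, LinearMap.baseChange_tmul]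
  refine (hΨ sv).symm.trans ?_
  rw [hkv, map_smul, hΨ, show (LinearMap.range U).mkQ one0 = 0 from
    (Submodule.Quotient.mk_eq_zero _).2 ⟨1, one_smul T one0⟩, TensorProduct.tmul_zero, smul_zero]

end Desc

section Transfer

theorem appTop_comp {X Y Z : Scheme.{u}} (f : X ⟶ Y) (k : Y ⟶ Z) (a : Γ(Z, ⊤)) :
    f.appTop (k.appTop a) = (f ≫ k).appTop a := by
  rw [Scheme.Hom.comp_appTop]; rfl

variable {M M' : AlgSp.Sp S} (g : M' ⟶ M) {π : 𝒳 ⥤ᵇ AlgSt.ofSp M} {et : (AlgSt.ofSp M').obj}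

theorem baseOver_snd (z : (fp (AlgSt.ofSpMap g) π).obj) (α : (fpFst (AlgSt.ofSpMap g) π).obj z ⟶ et) :
    baseOver π z.obj.snd (z.obj.iso.inv ≫ (AlgSt.ofSpMap g).map α) =
      eqToHom (StPushLib.fpSnd_base g π z) ≫ α.hom := by
  have hp : (AlgSt.ofSp M).p.IsHomLift (𝟙 ((AlgSt.ofSp M').p.obj z.obj.fst)) z.obj.iso.hom := z.property
  have h := @IsHomLift.fac' _ _ _ _ (AlgSt.ofSp M).p _ _ _ _ _ _ hp
  have e : z.obj.iso.inv.hom = eqToHom ((π.w_obj z.obj.snd).trans (StPushLib.fpSnd_base g π z)) := by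
    have h1 : z.obj.iso.hom.hom ≫ z.obj.iso.inv.hom = 𝟙 _ :=
      congrArg Stk.EltObj.Hom.hom z.obj.iso.hom_inv_id
    have h0 : z.obj.iso.hom.hom = eqToHom ((StPushLib.fpSnd_base g π z).symm.trans (π.w_obj z.obj.snd).symm) := by
      refine h.trans ?_
      simp
    haveI : IsIso z.obj.iso.hom.hom := by rw [h0]; infer_instance
    rw [← cancel_epi z.obj.iso.hom.hom, h1, h0, eqToHom_trans, eqToHom_refl]
  show eqToHom _ ≫ z.obj.iso.inv.hom ≫ α.hom = _
  rw [e, ← Category.assoc, eqToHom_trans]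

variable (π et)

/-- Bijectivity of the unit passes from a base change to the image. -/
theorem bijective_unitSect_of_fpFst (h : Function.Bijective (unitSect (fpFst (AlgSt.ofSpMap g) π) et)) :
    Function.Bijective (unitSect π ((AlgSt.ofSpMap g).obj et)) := by
  let P := fpSnd (AlgSt.ofSpMap g) π
  have key : ∀ (a : Γ(et.base.left, ⊤)) (z : (fp (AlgSt.ofSpMap g) π).obj)
      (α : (fpFst (AlgSt.ofSpMap g) π).obj z ⟶ et),
      (unitSect (fpFst (AlgSt.ofSpMap g) π) et a).1 z α = (eqToHom (sch_obj_eq P z).symm).appTop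
        ((unitSect π ((AlgSt.ofSpMap g).obj et) a).1 z.obj.snd (z.obj.iso.inv ≫ (AlgSt.ofSpMap g).map α)) :=
    fun a z α => by
    show (baseOver (fpFst (AlgSt.ofSpMap g) π) z α).left.appTop a =
      (Scheme.Hom.appTop (eqToHom (sch_obj_eq P z).symm))
      ((baseOver π z.obj.snd (z.obj.iso.inv ≫ (AlgSt.ofSpMap g).map α)).left.appTop a)
    rw [baseOver_snd]
    refine Eq.trans ?_ (appTop_comp (eqToHom (sch_obj_eq P z).symm) _ a).symm
    refine congrArg (fun k : sch (fp (AlgSt.ofSpMap g) π) z ⟶ et.base.left => k.appTop a) ?_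
    show (eqToHom _ ≫ α.hom : _ ⟶ et.base).left = eqToHom _ ≫ (eqToHom _ ≫ α.hom : _ ⟶ et.base).left
    rw [Over.comp_left, Over.comp_left, Over.eqToHom_left, Over.eqToHom_left, ← Category.assoc, eqToHom_trans]
  refine ⟨fun a b e => h.1 (Mod.RelSect.ext _ _ _ fun z α => ?_), fun s => ?_⟩
  · rw [key, key]
    exact congrArg (fun t : (O 𝒳).RelSect π ((AlgSt.ofSpMap g).obj et) =>
      (eqToHom (sch_obj_eq P z).symm).appTop (t.1 z.obj.snd (z.obj.iso.inv ≫ (AlgSt.ofSpMap g).map α))) e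
  let s' : (O (fp (AlgSt.ofSpMap g) π)).RelSect (fpFst (AlgSt.ofSpMap g) π) et :=
    ⟨fun z α => (eqToHom (sch_obj_eq P z).symm).appTop
        (s.1 z.obj.snd (z.obj.iso.inv ≫ (AlgSt.ofSpMap g).map α)), fun z' z φ α => by
      have hcompat : (O 𝒳).mapTop φ.hom.snd (s.1 z.obj.snd (z.obj.iso.inv ≫ (AlgSt.ofSpMap g).map α)) =
          s.1 z'.obj.snd (z'.obj.iso.inv ≫ (AlgSt.ofSpMap g).map ((fpFst (AlgSt.ofSpMap g) π).map φ ≫ α)) := by
        refine (s.2 φ.hom.snd _).trans (congrArg (s.1 z'.obj.snd) ?_)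
        rw [(AlgSt.ofSpMap g).toFunctor.map_comp]
        have hw := φ.hom.w
        rw [← cancel_epi z'.obj.iso.hom, Iso.hom_inv_id_assoc, ← Category.assoc]
        erw [← hw]
        rw [Category.assoc, Iso.hom_inv_id_assoc]
        rfl
      beta_reduce
      rw [← hcompat, O_mapTop, O_mapTop]
      refine (appTop_comp _ _ _).trans (Eq.trans ?_ (appTop_comp _ _ _).symm)
      refine congrArg (fun k : sch (fp (AlgSt.ofSpMap g) π) z' ⟶ sch 𝒳 z.obj.snd =>
        k.appTop (s.1 z.obj.snd (z.obj.iso.inv ≫ (AlgSt.ofSpMap g).map α))) ?_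
      have hb : bmap 𝒳 (P.map φ) ≫ eqToHom (sch_obj_eq P z) = eqToHom (sch_obj_eq P z') ≫ bmap _ φ :=
        bmap_map_comm P φ rfl
      show bmap (fp (AlgSt.ofSpMap g) π) φ ≫ eqToHom (sch_obj_eq P z).symm =
        eqToHom (sch_obj_eq P z').symm ≫ bmap 𝒳 (P.map φ)
      rw [← cancel_epi (eqToHom (sch_obj_eq P z')), ← Category.assoc, ← hb]
      simp⟩
  obtain ⟨a, ha⟩ := h.2 s'
  refine ⟨a, Mod.RelSect.ext _ _ _ fun x β => ?_⟩
  have h1 := congrArg (fun t : (O (fp (AlgSt.ofSpMap g) π)).RelSect (fpFst (AlgSt.ofSpMap g) π) et =>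
    t.1 (CohAffLib.bcPt g x β) (CohAffLib.bcPtHom g x β)) ha
  simp only [key] at h1
  have hinj : Function.Injective (eqToHom (sch_obj_eq P (CohAffLib.bcPt g x β)).symm).appTop :=
    (ConcreteCategory.bijective_of_isIso _).1
  have h2 := hinj h1
  rw [CohAffLib.bcPt_fac] at h2
  exact h2

end Transfer

end CohAffMorLib
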